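import Groth.Agent.BlowTwistLib.Basic
import Groth.Agent.RibbonLib.ClosedImm
import Groth.Agent.OmegaAffLib.Ideal
import Groth.Agent.ClSubLib.Annihilator
import Groth.Agent.ZClosLib.Basic
import Groth.Agent.ParaFLib.Stalk
import Groth.Agent.AmpleLib.Pullback

/-! The blow-up of a square-zero thickening in an effective Cartier divisor of the reduced part. -/

set_option autoImplicit false
set_option backward.isDefEq.respectTransparency false
set_option backward.isDefEq.respectTransparency.types false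
set_option linter.style.haveILetI false
set_option maxHeartbeats 800000

universe u

open CategoryTheory CategoryTheory.Limits AlgebraicGeometry TopologicalSpace Opposite

noncomputable section

namespace Groth.Agent.RibbonBlowLib

variable {C : Scheme.{u}} (I : C.IdealSheafData)

/-- The centre on the thickening. -/
abbrev cJ (δ : I.subscheme.IdealSheafData) : C.IdealSheafData := (δ.subschemeι ≫ I.subschemeι).ker

/-- An affine open on which the divisor has a regular equation, lifted to the thickening. -/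
structure Good (δ : I.subscheme.IdealSheafData) (U : C.affineOpens) where
  a : Γ(C, U.1)
  mem : a ∈ (cJ I δ).ideal U
  eq : (cJ I δ).ideal U = I.ideal U ⊔ Ideal.span {a}
  reg : (I.subschemeι.app U.1).hom a ∈ nonZeroDivisors Γ(I.subscheme, I.subschemeι ⁻¹ᵁ U.1)
  gen : δ.ideal ⟨I.subschemeι ⁻¹ᵁ U.1, U.2.preimage I.subschemeι⟩ = Ideal.span {(I.subschemeι.app U.1).hom a}

variable {I} {δ : I.subscheme.IdealSheafData}

theorem exists_good (U : C.affineOpens) (Wy : I.subscheme.affineOpens) (hle : I.subschemeι ⁻¹ᵁ U.1 ≤ Wy.1)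
    (f : Γ(I.subscheme, Wy.1)) (hf : f ∈ nonZeroDivisors Γ(I.subscheme, Wy.1)) (hI : δ.ideal Wy = Ideal.span {f}) :
    Nonempty (Good I δ U) := by
  let W : I.subscheme.affineOpens := ⟨I.subschemeι ⁻¹ᵁ U.1, U.2.preimage I.subschemeι⟩
  let ρ := (I.subscheme.presheaf.map (homOfLE hle).op).hom
  have hflat : ρ f ∈ nonZeroDivisors Γ(I.subscheme, W.1) := by
    letI := ρ.toAlgebra
    haveI : Module.Flat Γ(I.subscheme, Wy.1) Γ(I.subscheme, W.1) := by
      have h : ((Scheme.Hom.appLE (𝟙 I.subscheme) Wy.1 W.1 hle)).hom.Flat :=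
        HasRingHomProperty.appLE (P := @Flat) (𝟙 I.subscheme) inferInstance Wy W hle
      rwa [Scheme.Hom.appLE, Scheme.Hom.id_app, Category.id_comp] at h
    exact mem_nonZeroDivisors_iff_right.2 fun z hz => (IsSMulRegular.of_flat (S := Γ(I.subscheme, W.1))
      (fun u v huv => (mul_cancel_left_mem_nonZeroDivisors hf).1 huv)) (show ρ f * z = ρ f * 0 by rw [mul_zero, mul_comm, hz])
  have hW : δ.ideal W = Ideal.span {ρ f} := by
    rw [← δ.map_ideal (U := W) (V := Wy) hle, hI, Ideal.map_span, Set.image_singleton]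
    rfl
  obtain ⟨a, ha⟩ := I.subschemeι_app_surjective U (ρ f)
  have hJ : (cJ I δ).ideal U = (δ.ideal W).comap (I.subschemeι.app U.1).hom :=
    Scheme.IdealSheafData.ideal_map_of_isAffineHom δ I.subschemeι U
  have hk : RingHom.ker (I.subschemeι.app U.1).hom = I.ideal U := I.ker_subschemeι_app U
  have hmem : a ∈ (cJ I δ).ideal U := by
    rw [hJ, Ideal.mem_comap, hW]
    exact ha ▸ Ideal.mem_span_singleton_self (ρ f)
  refine ⟨⟨a, hmem, le_antisymm (fun x hx => ?_) (sup_le (fun x hx => ?_) ((Ideal.span_singleton_le_iff_mem _).2 hmem)),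
    ha ▸ hflat, ha ▸ hW⟩⟩
  · rw [hJ, Ideal.mem_comap, hW] at hx
    obtain ⟨c, hc⟩ := Ideal.mem_span_singleton'.1 hx
    obtain ⟨c', hc'⟩ := I.subschemeι_app_surjective U c
    have : x - c' * a ∈ I.ideal U := by
      rw [← hk, RingHom.mem_ker, map_sub, map_mul]
      exact sub_eq_zero.2 (hc.symm.trans (congrArg₂ (· * ·) hc'.symm ha.symm))
    rw [← sub_add_cancel x (c' * a)]
    exact Submodule.add_mem_sup this (Ideal.mul_mem_left _ _ (Ideal.mem_span_singleton_self a))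
  · rw [hJ, Ideal.mem_comap, show (I.subschemeι.app U.1).hom x = 0 from RingHom.mem_ker.1 (hk ▸ hx)]
    exact zero_mem _

/-- Good opens contain every point, and every affine open inside. -/
theorem exists_good_near (hI : I ^ 2 = ⊥) (hδ : BlowUp.IsEffCartierIdeal δ) (c : C) :
    ∃ U₀ : C.Opens, c ∈ U₀ ∧ ∀ U : C.affineOpens, U.1 ≤ U₀ → Nonempty (Good I δ U) := by
  haveI : Surjective I.subschemeι :=
    RibbonLib.surjective_of_ker_sq I.subschemeι (by rw [Scheme.IdealSheafData.ker_subschemeι, hI])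
  obtain ⟨y, rfl⟩ := I.subschemeι.surjective c
  obtain ⟨Wy, hy, f, hf, hW⟩ := hδ y
  have hc : IsClosed (I.subschemeι '' ((Wy.1 : Set I.subscheme)ᶜ)) :=
    I.subschemeι.isClosedEmbedding.isClosedMap _ Wy.1.2.isClosed_compl
  refine ⟨⟨_, hc.isOpen_compl⟩, ?_, fun U hU => exists_good U Wy (fun z hz => ?_) f hf hW⟩
  · rintro ⟨z, hz, he⟩
    exact hz (I.subschemeι.isClosedEmbedding.injective he ▸ hy)
  · by_contra h
    exact hU hz ⟨z, h, rfl⟩

theorem comap_centre (hI : I ^ 2 = ⊥) (hδ : BlowUp.IsEffCartierIdeal δ) : (cJ I δ).comap I.subschemeι = δ := by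
  choose U₀ hcU₀ hgood using exists_good_near hI hδ
  have : ∀ c : C, ∃ U : C.affineOpens, c ∈ U.1 ∧ U.1 ≤ U₀ c := fun c => by
    obtain ⟨_, ⟨U, hU, rfl⟩, h1, h2⟩ := C.isBasis_affineOpens.exists_subset_of_mem_open (hcU₀ c) (U₀ c).2
    exact ⟨⟨U, hU⟩, h1, h2⟩
  choose U hcU hUle using this
  refine Scheme.IdealSheafData.ext_of_iSup_eq_top
    (fun c => (⟨I.subschemeι ⁻¹ᵁ (U c).1, (U c).2.preimage I.subschemeι⟩ : I.subscheme.affineOpens))
    (top_le_iff.1 fun z _ => Opens.mem_iSup.2 ⟨I.subschemeι z, hcU _⟩) fun c => ?_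
  obtain ⟨G⟩ := hgood c (U c) (hUle c)
  rw [IdealStalkLib.comap_ideal (cJ I δ) I.subschemeι (U c).2 ((U c).2.preimage I.subschemeι) le_rfl, G.eq,
    ← Scheme.Hom.app_eq_appLE, Ideal.map_sup, Ideal.map_span, Set.image_singleton, G.gen]
  refine sup_eq_right.2 (le_of_eq_of_le ?_ bot_le)
  rw [Ideal.map_eq_bot_iff_le_ker, I.ker_subschemeι_app]

/-! ### The chart over a good open -/

variable {X : Scheme.{u}} {b : X ⟶ C} (hb : BlowUp.IsBlowUp b (cJ I δ)) (hI : I ^ 2 = ⊥)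

include hI in
theorem mul_eq_zero_of_mem {U : C.affineOpens} {x y : Γ(C, U.1)} (hx : x ∈ I.ideal U) (hy : y ∈ I.ideal U) :
    x * y = 0 := by
  have h : x * y ∈ (I ^ 2).ideal U := by
    rw [Scheme.IdealSheafData.ideal_pow, Pi.pow_apply, pow_two]
    exact Ideal.mul_mem_mul hx hy
  rw [hI] at h
  exact h

include hb hI in
/-- The preimage of a good open is one affine chart. -/
theorem chart_eq {U : C.affineOpens} (G : Good I δ U) :
    BlowChartLib.chartOpen (cJ I δ) U G.a b = b ⁻¹ᵁ U.1 := by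
  refine le_antisymm (BlowExistsLib.chartOpen_le_preimage b) fun x hx => ?_
  obtain ⟨s, hs, hxs⟩ := BlowExistsLib.exists_mem_chartOpen hb.1 (U := U) ((I.ideal U : Set Γ(C, U.1)) ∪ {G.a})
    (by rw [Ideal.span_union, Ideal.span_eq, G.eq]) x hx
  rcases hs with hs | rfl
  · exfalso
    have hsJ : s ∈ (cJ I δ).ideal U := by rw [G.eq]; exact Ideal.mem_sup_left hs
    have hn := BlowTwistLib.pb_mem_nonZeroDivisors hb hsJ
    have h2 : BlowTwistLib.pb (cJ I δ) b s s * BlowTwistLib.pb (cJ I δ) b s s = 0 := by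
      rw [← map_mul, mul_eq_zero_of_mem hI hs hs, map_zero]
    rw [mem_nonZeroDivisors_iff_right.1 hn _ h2] at hn
    have h1 : (1 : Γ(X, BlowChartLib.chartOpen (cJ I δ) U s b)) = 0 :=
      mem_nonZeroDivisors_iff_right.1 hn 1 (mul_zero _)
    have h3 : IsUnit (0 : Γ(X, BlowChartLib.chartOpen (cJ I δ) U s b)) := IsUnit.of_mul_eq_one 1 ((mul_one _).trans h1.symm)
    have h4 := X.basicOpen_of_isUnit h3
    rw [Scheme.basicOpen_zero] at h4
    exact (h4.symm ▸ hxs : x ∈ (⊥ : X.Opens))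
  · exact hxs

include hb hI in
theorem isAffineHom_blowUp (hδ : BlowUp.IsEffCartierIdeal δ) : IsAffineHom b := by
  refine isAffineHom_of_forall_exists_isAffineOpen _ fun c => ?_
  obtain ⟨U₀, hc, hgood⟩ := exists_good_near hI hδ c
  obtain ⟨_, ⟨U, hU, rfl⟩, hcU, hUle⟩ := C.isBasis_affineOpens.exists_subset_of_mem_open hc U₀.2
  obtain ⟨G⟩ := hgood ⟨U, hU⟩ hUle
  refine ⟨U, hcU, hU, ?_⟩
  rw [← chart_eq hb hI G]
  exact BlowTwistLib.isAffine hb G.mem

/-- A decomposition of the sections over a good open. -/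
theorem pow_mul_mem {A : Type u} [CommRing A] {I J : Ideal A} {a : A} (hI : ∀ x ∈ I, ∀ y ∈ I, x * y = 0)
    (hJ : J = I ⊔ Ideal.span {a}) : ∀ (k : ℕ), ∀ c ∈ J ^ k, ∃ r, ∃ ε ∈ I, c * a = r * a ^ (k + 1) + a ^ k * ε := by
  intro k
  induction k with
  | zero => exact fun c _ => ⟨c, 0, zero_mem _, by simp⟩
  | succ k ih =>
    intro c hc
    rw [pow_succ] at hc
    induction hc using Submodule.mul_induction_on' with
    | mem_mul_mem x hx y hy =>
      obtain ⟨r, ε, hε, h⟩ := ih x hx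
      rw [hJ] at hy
      obtain ⟨ε', hε', w, hw, rfl⟩ := Submodule.mem_sup.1 hy
      obtain ⟨s, rfl⟩ := Ideal.mem_span_singleton'.1 hw
      refine ⟨r * s, r * ε' + s * ε, add_mem (Ideal.mul_mem_left _ _ hε') (Ideal.mul_mem_left _ _ hε), ?_⟩
      calc x * (ε' + s * a) * a = (x * a) * (ε' + s * a) := by ring
        _ = r * s * a ^ (k + 1 + 1) + a ^ (k + 1) * (r * ε' + s * ε) + a ^ k * (ε * ε') := by rw [h]; ring
        _ = _ := by rw [hI ε hε ε' hε', mul_zero, add_zero]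
    | add x _ y _ hx hy =>
      obtain ⟨r, ε, hε, h⟩ := hx
      obtain ⟨r', ε', hε', h'⟩ := hy
      exact ⟨r + r', ε + ε', add_mem hε hε', by rw [add_mul, h, h']; ring⟩

include hb hI in
/-- The ring of sections over a good open. -/
theorem chart_ring {U : C.affineOpens} (G : Good I δ U) :
    (b.app U.1).hom G.a ∈ nonZeroDivisors Γ(X, b ⁻¹ᵁ U.1) ∧
    ((cJ I δ).ideal U).map (b.app U.1).hom = Ideal.span {(b.app U.1).hom G.a} ∧
    (∀ t, ∃ r z, ∃ ε ∈ I.ideal U, t = (b.app U.1).hom r + z ∧ z * (b.app U.1).hom G.a = (b.app U.1).hom ε) ∧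
    ∀ r, (b.app U.1).hom r = 0 → ∃ n : ℕ, G.a ^ n * r = 0 := by
  suffices h : ∀ (V : X.Opens) (e : V ≤ b ⁻¹ᵁ U.1), V = BlowChartLib.chartOpen (cJ I δ) U G.a b →
      (b.appLE U.1 V e).hom G.a ∈ nonZeroDivisors Γ(X, V) ∧
      ((cJ I δ).ideal U).map (b.appLE U.1 V e).hom = Ideal.span {(b.appLE U.1 V e).hom G.a} ∧
      (∀ t, ∃ r z, ∃ ε ∈ I.ideal U, t = (b.appLE U.1 V e).hom r + z ∧
        z * (b.appLE U.1 V e).hom G.a = (b.appLE U.1 V e).hom ε) ∧
      ∀ r, (b.appLE U.1 V e).hom r = 0 → ∃ n : ℕ, G.a ^ n * r = 0 by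
    have h' := h (b ⁻¹ᵁ U.1) le_rfl (chart_eq hb hI G).symm
    rwa [← Scheme.Hom.app_eq_appLE] at h'
  intro V e hV
  subst hV
  have hn := BlowTwistLib.pb_mem_nonZeroDivisors hb G.mem
  let ρ : Γ(C, U.1) →+* Γ(X, BlowChartLib.chartOpen (cJ I δ) U G.a b) := BlowTwistLib.pb (cJ I δ) b G.a
  refine ⟨hn, BlowTwistLib.map_pb hb G.mem, fun t => ?_, fun r hr => ?_⟩
  · obtain ⟨k, c, hc, hk⟩ := BlowTwistLib.exists_section hb G.mem t
    obtain ⟨r, ε, hε, h⟩ := pow_mul_mem (fun x hx y hy => mul_eq_zero_of_mem hI hx hy) G.eq k c hc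
    refine ⟨r, t - ρ r, ε, hε, (add_sub_cancel _ _).symm, ?_⟩
    show (t - ρ r) * ρ G.a = ρ ε
    refine (mul_cancel_right_mem_nonZeroDivisors (pow_mem hn k)).1 ?_
    have h' := congrArg ρ h
    simp only [map_mul, map_add, map_pow] at h'
    change ρ c = t * ρ G.a ^ k at hk
    show (t - ρ r) * ρ G.a * ρ G.a ^ k = ρ ε * ρ G.a ^ k
    rw [hk] at h'
    linear_combination h'
  · obtain ⟨ψ, hψ, halg, -⟩ := BlowTwistLib.exists_chart_equiv (c := G.a) hb G.mem
    have h0 := halg r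
    rw [show BlowTwistLib.pb (cJ I δ) b G.a r = 0 from hr, map_zero] at h0
    have h1 : algebraMap Γ(C, U.1) (Localization.Away G.a) r = 0 := (congrArg Subtype.val h0.symm).trans rfl
    obtain ⟨⟨_, n, rfl⟩, hm⟩ := (IsLocalization.map_eq_zero_iff (Submonoid.powers G.a) _ r).1 h1
    exact ⟨n, hm⟩

/-! ### The section -/

theorem app_congr_ker {g : I.subscheme ⟶ C} (hg : g = I.subschemeι) {U : C.affineOpens} (G : Good I δ U) :
    (∀ x, (g.app U.1).hom x = 0 ↔ x ∈ I.ideal U) ∧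
      (g.app U.1).hom G.a ∈ nonZeroDivisors Γ(I.subscheme, g ⁻¹ᵁ U.1) := by
  subst hg
  exact ⟨fun x => by rw [← RingHom.mem_ker, I.ker_subschemeι_app], G.reg⟩

variable {σ : I.subscheme ⟶ X} (hσ : σ ≫ b = I.subschemeι)

include hb hI hσ in
theorem mem_ker_iff {U : C.affineOpens} (G : Good I δ U) (t : Γ(X, b ⁻¹ᵁ U.1)) :
    (σ.app (b ⁻¹ᵁ U.1)).hom t = 0 ↔ ∃ ε ∈ I.ideal U, t * (b.app U.1).hom G.a = (b.app U.1).hom ε := by
  obtain ⟨hk, hreg⟩ := app_congr_ker hσ G
  obtain ⟨-, -, hdec, -⟩ := chart_ring hb hI G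
  have hc : ∀ x, (σ.app (b ⁻¹ᵁ U.1)).hom ((b.app U.1).hom x) = ((σ ≫ b).app U.1).hom x := fun x => by
    rw [Scheme.Hom.comp_app]
    rfl
  have hcancel : ∀ z, ∀ ε ∈ I.ideal U, z * (b.app U.1).hom G.a = (b.app U.1).hom ε →
      (σ.app (b ⁻¹ᵁ U.1)).hom z = 0 := fun z ε hε h => by
    refine mem_nonZeroDivisors_iff_right.1 hreg _ ?_
    rw [← hc]
    refine (map_mul (σ.app (b ⁻¹ᵁ U.1)).hom _ _).symm.trans ?_
    rw [h, hc]
    exact (hk ε).2 hε
  refine ⟨fun h => ?_, fun ⟨ε, hε, h⟩ => hcancel t ε hε h⟩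
  obtain ⟨r, z, ε, hε, rfl, hz⟩ := hdec t
  rw [map_add, hcancel z ε hε hz, add_zero, hc, hk] at h
  exact ⟨r * G.a + ε, add_mem (Ideal.mul_mem_right _ _ h) hε, by rw [add_mul, hz, map_add, map_mul]⟩

end Groth.Agent.RibbonBlowLib
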