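import Groth.Agent.RibbonBlowLib.Mul
import Groth.Agent.RibbonBlowLib.Chart
import Groth.Agent.BlowProjLib.Main
import Groth.Agent.JacLib.Point
import Groth.Agent.CastLib.InterFibreClass
import Groth.Agent.DCohLib.ClosedPush
import Groth.Agent.DCohLib.TensorPull
import Groth.Agent.AmpleLib.Tensor

/-! The blow-up of a ribbon in a divisor is a ribbon with twisted conormal bundle. -/

set_option autoImplicit false
set_option backward.isDefEq.respectTransparency false
set_option backward.isDefEq.respectTransparency.types false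
set_option linter.style.haveILetI false
set_option maxHeartbeats 800000

universe u

open CategoryTheory CategoryTheory.Limits AlgebraicGeometry TopologicalSpace Opposite

noncomputable section

namespace Groth.Agent.RibbonBlowLib

/-- A module map bijective on affine opens inside small enough neighbourhoods is an isomorphism. -/
theorem isIso_of_local_bijective {X : Scheme.{u}} {M N : X.Modules} (φ : M ⟶ N)
    (h : ∀ x : X, ∃ U₀ : X.Opens, x ∈ U₀ ∧ ∀ V : X.Opens, IsAffineOpen V → V ≤ U₀ → Function.Bijective (φ.app V)) :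
    IsIso φ := by
  choose U₀ hx₀ hb using h
  have hinj : ∀ V : X.Opens, IsAffineOpen V → Function.Injective (φ.app V) := fun V _ s t hst => by
    refine ZClosLib.section_ext M V s t fun x hx => ?_
    obtain ⟨W, hW, hxW, hWV⟩ := ZClosLib.exists_affine_le (V ⊓ U₀ x) ⟨hx, hx₀ x⟩
    rw [← ZClosLib.germ_res' M (hWV.trans inf_le_left) x hxW s, ← ZClosLib.germ_res' M (hWV.trans inf_le_left) x hxW t]
    congr 1
    apply (hb x W hW (hWV.trans inf_le_right)).1
    rw [ZClosLib.app_res, ZClosLib.app_res, hst]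
  refine ZClosLib.isIso_of_stalk φ fun x => ⟨ZClosLib.stalk_injective φ x hinj, fun a => ?_⟩
  obtain ⟨U, hxU, s, rfl⟩ := TopCat.Presheaf.exists_germ_eq N.presheaf a
  obtain ⟨W, hW, hxW, hWU⟩ := ZClosLib.exists_affine_le (U ⊓ U₀ x) ⟨hxU, hx₀ x⟩
  obtain ⟨t, ht⟩ := (hb x W hW (hWU.trans inf_le_right)).2 (N.presheaf.map (homOfLE (hWU.trans inf_le_left)).op s)
  exact ⟨M.presheaf.germ W x hxW t, by rw [ZClosLib.map_germ, ht, ZClosLib.germ_res']⟩

/-- A quasi-coherent module killed by the ideal of a closed immersion is a direct image. -/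
theorem isIso_unit_of_killed {Z X : Scheme.{u}} (i : Z ⟶ X) [IsClosedImmersion i] (M : X.Modules) [Coh.IsQCoh M]
    (h : ClSub.KilledByIdeal i.ker M) : IsIso ((Scheme.Modules.pullbackPushforwardAdjunction i).unit.app M) :=
  DCohLib.isIso_unit_of_suppOn i (ClSubLib.suppOn_of_killed i M h)

/-- An ideal killed by another as a product is killed as a module. -/
theorem killed_of_mul_eq_bot {X : Scheme.{u}} {A B : X.IdealSheafData} (h : A * B = ⊥) :
    ClSub.KilledByIdeal A (ClSub.idealMod B) := by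
  intro U a ha m
  apply OmegaAffLib.idealSect_injective
  refine (OmegaAffLib.idealSect_smul B U.1 a m).trans ?_
  have h2 : a * OmegaSh.idealSect B U.1 m ∈ (A * B).ideal U := by
    rw [Scheme.IdealSheafData.ideal_mul, Pi.mul_apply]
    exact Ideal.mul_mem_mul ha ((OmegaAffLib.mem_range_idealSect B U _).2 ⟨m, rfl⟩)
  rw [h] at h2
  rw [show a * OmegaSh.idealSect B U.1 m = 0 from h2]
  exact (map_zero _).symm

section Regular

variable {C : Scheme.{u}} (I : C.IdealSheafData) (hI : I ^ 2 = ⊥)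
  (hL : PicF.IsInvertible ((Scheme.Modules.pullback I.subschemeι).obj (ClSub.idealMod I)))

theorem smul_eq_zero_of_reg {D : Scheme.{u}} {L : D.Modules} (hL : PicF.IsInvertible L) {W : D.Opens} (hW : IsAffineOpen W)
    {r : Γ(D, W)} (hr : r ∈ nonZeroDivisors Γ(D, W)) {m : Γ(L, W)} (h : r • m = 0) : m = 0 := by
  refine ZClosLib.section_ext L W m 0 fun x hx => ?_
  rw [map_zero]
  obtain ⟨e, he⟩ := ParaFLib.exists_stalk_gen hL x
  obtain ⟨c, hc⟩ := he.2 (L.presheaf.germ W x hx m)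
  have h1 : (D.presheaf.germ W x hx r * c) • e = (0 : D.presheaf.stalk x) • e := by
    rw [mul_smul, show c • e = _ from hc, ← StalkHomLib.germ_smul' L x hx r m, h, map_zero, zero_smul]
  have h2 := he.1 h1
  letI : Algebra Γ(D, W) (D.presheaf.stalk x) := TopCat.Presheaf.algebra_section_stalk D.presheaf ⟨x, hx⟩
  haveI := hW.isLocalization_stalk ⟨x, hx⟩
  have h3 : D.presheaf.germ W x hx r ∈ nonZeroDivisors (D.presheaf.stalk x) :=
    IsLocalization.map_nonZeroDivisors_le (hW.primeIdealOf ⟨x, hx⟩).asIdeal.primeCompl (D.presheaf.stalk x) ⟨r, hr, rfl⟩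
  rw [← hc, show c = 0 from mem_nonZeroDivisors_iff_right.1 h3 c (by rw [mul_comm]; exact h2)]
  exact zero_smul _ e

include hI hL in
/-- A lift of a regular equation acts injectively on the ideal of the thickening. -/
theorem eq_zero_of_mul {U : C.affineOpens} {a : Γ(C, U.1)}
    (ha : (I.subschemeι.app U.1).hom a ∈ nonZeroDivisors Γ(I.subscheme, I.subschemeι ⁻¹ᵁ U.1))
    {ε : Γ(C, U.1)} (hε : ε ∈ I.ideal U) (h : a * ε = 0) : ε = 0 := by
  obtain ⟨m, rfl⟩ := (OmegaAffLib.mem_range_idealSect I U ε).1 hε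
  have hk : ClSub.KilledByIdeal I.subschemeι.ker (ClSub.idealMod I) := by
    rw [Scheme.IdealSheafData.ker_subschemeι]
    exact killed_of_mul_eq_bot (by rw [← pow_two, hI])
  haveI : Coh.IsQCoh (ClSub.idealMod I) := OmegaAffLib.isQCoh_idealMod I
  haveI := isIso_unit_of_killed I.subschemeι (ClSub.idealMod I) hk
  let u := (Scheme.Modules.pullbackPushforwardAdjunction I.subschemeι).unit.app (ClSub.idealMod I)
  have hm : a • m = 0 := OmegaAffLib.idealSect_injective I U.1 (by
    rw [OmegaAffLib.idealSect_smul, h]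
    exact (map_zero _).symm)
  have hu : (I.subschemeι.app U.1).hom a •
      (show Γ((Scheme.Modules.pullback I.subschemeι).obj (ClSub.idealMod I), I.subschemeι ⁻¹ᵁ U.1) from u.app U.1 m) = 0 := by
    refine Eq.trans ?_ ((congrArg (u.app U.1) hm).trans (map_zero _))
    exact (Scheme.Modules.Hom.app_smul u a m).symm
  have h0 := smul_eq_zero_of_reg hL (U.2.preimage I.subschemeι) ha hu
  rw [show m = 0 from (ZClosLib.bijective_of_isIso u U.1).1 (h0.trans (map_zero _).symm)]
  exact map_zero _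

end Regular

theorem nonempty_conormal_iso {C X : Scheme.{u}} (I : C.IdealSheafData) (hI : I ^ 2 = ⊥)
    (hL : PicF.IsInvertible ((Scheme.Modules.pullback I.subschemeι).obj (ClSub.idealMod I)))
    (δ : I.subscheme.IdealSheafData) (hδ : BlowUp.IsEffCartierIdeal δ)
    (M : I.subscheme.Modules) (hM : ClSub.IsInverseOf M (ClSub.idealMod δ))
    (b : X ⟶ C) (hb : BlowUp.IsBlowUp b (cJ I δ)) :
    ∃ σ : I.subscheme ⟶ X, σ ≫ b = I.subschemeι ∧ IsClosedImmersion σ ∧ σ.ker ^ 2 = ⊥ ∧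
      Nonempty ((Scheme.Modules.pullback σ).obj (ClSub.idealMod σ.ker) ≅
        CohB1.tensorMod ((Scheme.Modules.pullback I.subschemeι).obj (ClSub.idealMod I)) M) := by
  have hcomap := comap_centre hI hδ
  obtain ⟨σ, hσ, -⟩ := hb.2 _ I.subschemeι (hcomap.symm ▸ hδ)
  haveI := isAffineHom_blowUp hb hI hδ
  haveI : IsClosedImmersion (σ ≫ b) := hσ ▸ inferInstance
  haveI : IsClosedImmersion σ := IsClosedImmersion.of_comp σ b
  choose U₀ hcU₀ hgood using exists_good_near hI hδ
  have : ∀ c : C, ∃ U : C.affineOpens, c ∈ U.1 ∧ U.1 ≤ U₀ c := fun c => by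
    obtain ⟨_, ⟨U, hU, rfl⟩, h1, h2⟩ := C.isBasis_affineOpens.exists_subset_of_mem_open (hcU₀ c) (U₀ c).2
    exact ⟨⟨U, hU⟩, h1, h2⟩
  choose U hcU hUle using this
  let V : C → X.affineOpens := fun c => ⟨b ⁻¹ᵁ (U c).1, (U c).2.preimage b⟩
  have hcov : ⨆ c, (V c).1 = ⊤ := top_le_iff.1 fun x _ => Opens.mem_iSup.2 ⟨b x, hcU _⟩
  let I' := σ.ker
  let E := (cJ I δ).comap b
  have hker : ∀ (U : C.affineOpens) (t : Γ(X, b ⁻¹ᵁ U.1)), t ∈ I'.ideal ⟨b ⁻¹ᵁ U.1, U.2.preimage b⟩ ↔
      (σ.app (b ⁻¹ᵁ U.1)).hom t = 0 := fun U t => by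
    rw [show I'.ideal ⟨b ⁻¹ᵁ U.1, U.2.preimage b⟩ = _ from σ.ker_apply _, RingHom.mem_ker]
  -- the square of the new ideal vanishes
  have hsq : I' ^ 2 = ⊥ := by
    refine Scheme.IdealSheafData.ext_of_iSup_eq_top V hcov fun c => ?_
    obtain ⟨G⟩ := hgood c (U c) (hUle c)
    obtain ⟨hn, -, -, -⟩ := chart_ring hb hI G
    rw [Scheme.IdealSheafData.ideal_pow, Pi.pow_apply, pow_two, Scheme.IdealSheafData.ideal_bot, Pi.bot_apply]
    refine le_bot_iff.1 (Ideal.mul_le.2 fun t ht t' ht' => ?_)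
    obtain ⟨ε, hε, h⟩ := (mem_ker_iff hb hI hσ G t).1 ((hker _ _).1 ht)
    obtain ⟨ε', hε', h'⟩ := (mem_ker_iff hb hI hσ G t').1 ((hker _ _).1 ht')
    refine mem_nonZeroDivisors_iff_right.1 hn _ (mem_nonZeroDivisors_iff_right.1 hn _ ?_)
    calc t * t' * _ * _ = (t * (b.app (U c).1).hom G.a) * (t' * (b.app (U c).1).hom G.a) := by ring
      _ = 0 := by rw [h, h', ← map_mul, mul_eq_zero_of_mem hI hε hε', map_zero]
  -- the inverse image of the ideal of the reduced part
  have hprod : I.comap b = I' * E := by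
    refine Scheme.IdealSheafData.ext_of_iSup_eq_top V hcov fun c => ?_
    obtain ⟨G⟩ := hgood c (U c) (hUle c)
    obtain ⟨-, hmap, -, -⟩ := chart_ring hb hI G
    rw [Scheme.IdealSheafData.ideal_mul, Pi.mul_apply,
      IdealStalkLib.comap_ideal (cJ I δ) b (U c).2 ((U c).2.preimage b) le_rfl,
      IdealStalkLib.comap_ideal I b (U c).2 ((U c).2.preimage b) le_rfl, ← Scheme.Hom.app_eq_appLE, hmap]
    refine le_antisymm (Ideal.map_le_iff_le_comap.2 fun ε hε => ?_) fun w hw => ?_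
    · have hεJ : ε ∈ (cJ I δ).ideal (U c) := by rw [G.eq]; exact Ideal.mem_sup_left hε
      obtain ⟨z, hz⟩ := Ideal.mem_span_singleton'.1 (hmap.le (Ideal.mem_map_of_mem _ hεJ))
      exact Ideal.mem_mul_span_singleton.2 ⟨z, (hker _ _).2 ((mem_ker_iff hb hI hσ G z).2 ⟨ε, hε, hz⟩), hz⟩
    · obtain ⟨t, ht, rfl⟩ := Ideal.mem_mul_span_singleton.1 hw
      obtain ⟨ε, hε, h⟩ := (mem_ker_iff hb hI hσ G t).1 ((hker _ _).1 ht)
      rw [h]
      exact Ideal.mem_map_of_mem _ hε
  let K := ClSub.idealMod (I.comap b)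
  haveI : Coh.IsQCoh K := OmegaAffLib.isQCoh_idealMod _
  haveI := isIso_unit_of_killed σ K (killed_of_mul_eq_bot (by
    rw [hprod, ← mul_assoc, ← pow_two, hsq]
    exact le_bot_iff.1 (TwistShriek.mul_le_left' _ _)))
  -- the ideal of the reduced part is the direct image of its inverse image
  obtain ⟨θ, hθ⟩ := BlowProjLib.exists_theta I b
  haveI : IsIso θ := by
    refine isIso_of_local_bijective θ fun c => ⟨U₀ c, hcU₀ c, fun W hW hWle => ?_⟩
    obtain ⟨G⟩ := hgood c ⟨W, hW⟩ hWle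
    obtain ⟨hn, -, hdec, hzero⟩ := chart_ring hb hI G
    refine ⟨(injective_iff_map_eq_zero _).2 fun m hm => ?_, fun m => ?_⟩
    · apply OmegaAffLib.idealSect_injective
      refine Eq.trans ?_ (map_zero _).symm
      have hε : OmegaSh.idealSect I W m ∈ I.ideal ⟨W, hW⟩ := (OmegaAffLib.mem_range_idealSect I ⟨W, hW⟩ _).2 ⟨m, rfl⟩
      have h0 : (b.app W).hom (OmegaSh.idealSect I W m) = 0 := by
        rw [← hθ, hm]
        exact map_zero _
      obtain ⟨n, h⟩ := hzero _ h0
      induction n with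
      | zero => rwa [pow_zero, one_mul] at h
      | succ n ih =>
        apply ih
        rw [pow_succ', mul_assoc] at h
        exact eq_zero_of_mul I hI hL G.reg (Ideal.mul_mem_left _ _ hε) h
    · have hx := (OmegaAffLib.mem_range_idealSect (I.comap b) ⟨b ⁻¹ᵁ W, hW.preimage b⟩ _).2 ⟨m, rfl⟩
      rw [IdealStalkLib.comap_ideal I b hW (hW.preimage b) le_rfl, ← Scheme.Hom.app_eq_appLE] at hx
      suffices hs : ∀ x ∈ (I.ideal ⟨W, hW⟩).map (b.app W).hom, ∃ ε ∈ I.ideal ⟨W, hW⟩, (b.app W).hom ε = x by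
        obtain ⟨ε, hε, he⟩ := hs _ hx
        obtain ⟨m', rfl⟩ := (OmegaAffLib.mem_range_idealSect I ⟨W, hW⟩ _).1 hε
        exact ⟨m', OmegaAffLib.idealSect_injective (I.comap b) (b ⁻¹ᵁ W) ((hθ W m').trans he)⟩
      intro x hx
      rw [Ideal.map] at hx
      induction hx using Submodule.span_induction with
      | mem x hx =>
        obtain ⟨ε, hε, rfl⟩ := hx
        exact ⟨ε, hε, rfl⟩
      | zero => exact ⟨0, zero_mem _, map_zero _⟩
      | add x y _ _ hx hy =>
        obtain ⟨ε, hε, rfl⟩ := hx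
        obtain ⟨ε', hε', rfl⟩ := hy
        exact ⟨ε + ε', add_mem hε hε', map_add _ _ _⟩
      | smul t x _ hx =>
        obtain ⟨ε, hε, rfl⟩ := hx
        obtain ⟨r, z, ε', hε', rfl, hz⟩ := hdec t
        have h0 : z * (b.app W).hom ε = 0 := by
          refine mem_nonZeroDivisors_iff_right.1 hn _ ?_
          rw [mul_right_comm, hz, ← map_mul, mul_eq_zero_of_mem hI hε' hε, map_zero]
        exact ⟨r * ε, Ideal.mul_mem_left _ _ hε, by rw [smul_eq_mul, add_mul, h0, add_zero, map_mul]⟩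
  let L := (Scheme.Modules.pullback I.subschemeι).obj (ClSub.idealMod I)
  let L' := (Scheme.Modules.pullback σ).obj (ClSub.idealMod I')
  haveI := DCohLib.isIso_counit_closedImmersion I.subschemeι ((Scheme.Modules.pullback σ).obj K)
  let eK : (Scheme.Modules.pullback σ).obj K ≅ L :=
    (asIso ((Scheme.Modules.pullbackPushforwardAdjunction I.subschemeι).counit.app ((Scheme.Modules.pullback σ).obj K))).symm ≪≫
      (Scheme.Modules.pullback I.subschemeι).mapIso ((Scheme.Modules.pushforwardCongr hσ.symm).app _ ≪≫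
        ((Scheme.Modules.pushforwardComp σ b).app _).symm ≪≫
        (Scheme.Modules.pushforward b).mapIso (asIso ((Scheme.Modules.pullbackPushforwardAdjunction σ).unit.app K)).symm ≪≫
        (asIso θ).symm)
  have hE : BlowUp.IsEffCartierIdeal E := hb.1
  have hEc : E.comap σ = δ := by rw [← Scheme.IdealSheafData.comap_comp, hσ, hcomap]
  obtain ⟨eE⟩ := JacLib.nonempty_iso_pullback_idealMod σ E hE (hEc.symm ▸ hδ)
  obtain ⟨eM⟩ := nonempty_mul_iso (A := I') (CastLib.isInvertible_idealMod hE)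
  obtain ⟨η⟩ := hM
  let e1 : CohB1.tensorMod L' (ClSub.idealMod δ) ≅ L :=
    AmpleLib.tIso (Iso.refl L') (eqToIso (congrArg ClSub.idealMod hEc.symm) ≪≫ eE.symm) ≪≫
      (((DCohLib.pullTensorBiIsoSch σ).app (ClSub.idealMod I')).app (ClSub.idealMod E)).symm ≪≫
      (Scheme.Modules.pullback σ).mapIso (eM ≪≫ eqToIso (congrArg ClSub.idealMod hprod.symm)) ≪≫ eK
  exact ⟨σ, hσ, inferInstance, hsq, ⟨(AmpleLib.unitR L').symm ≪≫
    AmpleLib.tIso (Iso.refl L') (η.symm ≪≫ AmpleLib.comm M (ClSub.idealMod δ)) ≪≫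
    (AmpleLib.assoc L' (ClSub.idealMod δ) M).symm ≪≫ AmpleLib.tIso e1 (Iso.refl M)⟩⟩

end Groth.Agent.RibbonBlowLib
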