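import Groth.Agent.TwistShriek.SurfPeel
import Groth.Agent.StalkHomLib.ThetaBij

/-! The product of an ideal with an invertible ideal, as modules. -/

set_option autoImplicit false
set_option backward.isDefEq.respectTransparency false
set_option backward.isDefEq.respectTransparency.types false
set_option linter.style.haveILetI false
set_option maxHeartbeats 800000

universe u

open CategoryTheory CategoryTheory.Limits AlgebraicGeometry TopologicalSpace Opposite
open Groth.Agent.PullbackMod Groth.Agent.DCohLib Groth.Agent.CurveLib Groth.Agent.H1ZeroLib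
open scoped TensorProduct

noncomputable section

namespace Groth.Agent.RibbonBlowLib

variable {X : Scheme.{u}} (A B : X.IdealSheafData)

/-- Multiplication of sections. -/
def mulMap : tmod (ClSub.idealMod A) (ClSub.idealMod B) ⟶ Coh.structureModule X :=
  tmap (ClSub.idealModι A) (ClSub.idealMod B) ≫ StalkHomLib.unitMap (ClSub.idealMod B) ≫ ClSub.idealModι B

theorem stalk_mulMap {x : X} {m : (ClSub.idealMod A).presheaf.stalk x} {r : X.presheaf.stalk x}
    (hr : stalkLin (ClSub.idealModι A) x m = r • ParaFLib.oneG x) (n : (ClSub.idealMod B).presheaf.stalk x) :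
    stalkLin (mulMap A B) x (stalkTensor x (ClSub.idealMod A) (ClSub.idealMod B) (m ⊗ₜ[X.presheaf.stalk x] n)) =
      r • stalkLin (ClSub.idealModι B) x n := by
  have h1 : stalkLin (StalkHomLib.unitMap (ClSub.idealMod B)) x
      (stalkTensor x (Coh.structureModule X) (ClSub.idealMod B) (ParaFLib.oneG x ⊗ₜ n)) = n :=
    StalkHomLib.unitMap_stalk (ClSub.idealMod B) x n
  rw [mulMap, stalkLin_comp, stalkLin_comp, LinearMap.comp_apply, LinearMap.comp_apply, stalkTensor_natural_left,
    LinearMap.rTensor_tmul, hr, ← TensorProduct.smul_tmul', map_smul, map_smul, map_smul, h1]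

variable {A B}

theorem exists_stalk_rep (hB : PicF.IsInvertible (ClSub.idealMod B)) (x : X) :
    ∃ (e : (ClSub.idealMod B).presheaf.stalk x) (b : X.presheaf.stalk x),
      (Function.Bijective fun r : X.presheaf.stalk x => r • e) ∧
      stalkLin (ClSub.idealModι B) x e = b • ParaFLib.oneG x ∧
      (∀ c, c * b = 0 → c = 0) ∧ IntMult.stalkIdeal B x = Ideal.span {b} := by
  obtain ⟨e, he⟩ := ParaFLib.exists_stalk_gen hB x
  obtain ⟨b, hb⟩ := (ParaFLib.bijective_oneG x).2 (stalkLin (ClSub.idealModι B) x e)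
  have hi := (mono_iff_stalk (ClSub.idealModι B)).1 (inferInstanceAs (Mono (kernel.ι _))) x
  refine ⟨e, b, he, hb.symm, fun c hc => he.1 ?_, ?_⟩
  · show c • e = (0 : X.presheaf.stalk x) • e
    apply hi
    rw [map_smul, map_smul, ← hb, smul_smul, smul_smul, hc, zero_mul]
  · refine le_antisymm (fun r hr => ?_) ((Ideal.span_singleton_le_iff_mem _).2
      ((HilbObsLib.mem_range_idealModι B x b).1 ⟨e, hb.symm⟩))
    obtain ⟨n, hn⟩ := (HilbObsLib.mem_range_idealModι B x r).2 hr
    obtain ⟨c, rfl⟩ := he.2 n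
    rw [map_smul, ← hb, smul_smul] at hn
    exact Ideal.mem_span_singleton'.2 ⟨c, (ParaFLib.bijective_oneG x).1 hn⟩

theorem exists_tensor_rep {x : X} {e : (ClSub.idealMod B).presheaf.stalk x}
    (he : Function.Bijective fun r : X.presheaf.stalk x => r • e)
    (z : (tmod (ClSub.idealMod A) (ClSub.idealMod B)).presheaf.stalk x) :
    ∃ m, z = stalkTensor x (ClSub.idealMod A) (ClSub.idealMod B) (m ⊗ₜ[X.presheaf.stalk x] e) := by
  obtain ⟨z, rfl⟩ := (stalkTensor x (ClSub.idealMod A) (ClSub.idealMod B)).surjective z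
  induction z with
  | zero => exact ⟨0, by rw [TensorProduct.zero_tmul]⟩
  | tmul m l =>
    obtain ⟨c, rfl⟩ := he.2 l
    exact ⟨c • m, by rw [TensorProduct.smul_tmul]⟩
  | add a c ha hc =>
    obtain ⟨a', ha'⟩ := ha
    obtain ⟨c', hc'⟩ := hc
    exact ⟨a' + c', by rw [map_add, ha', hc', ← map_add, ← TensorProduct.add_tmul]⟩

theorem mulMap_toSubscheme (hB : PicF.IsInvertible (ClSub.idealMod B)) :
    mulMap A B ≫ ClSub.toSubscheme (A * B) = 0 := by
  refine hom_ext_stalk fun x => LinearMap.ext fun z => ?_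
  obtain ⟨e, b, he, hb, -, hB'⟩ := exists_stalk_rep hB x
  obtain ⟨m, rfl⟩ := exists_tensor_rep (A := A) he z
  obtain ⟨r, hr⟩ := (ParaFLib.bijective_oneG x).2 (stalkLin (ClSub.idealModι A) x m)
  have hmem : r * b ∈ IntMult.stalkIdeal (A * B) x := by
    rw [DivisorialLib.stalkIdeal_mul, hB']
    exact Ideal.mul_mem_mul ((HilbObsLib.mem_range_idealModι A x r).1 ⟨m, hr.symm⟩) (Ideal.mem_span_singleton_self b)
  obtain ⟨n, hn⟩ := (HilbObsLib.mem_range_idealModι (A * B) x (r * b)).2 hmem
  rw [stalkLin_comp, LinearMap.comp_apply, stalk_mulMap A B hr.symm, hb, smul_smul, DevLib.stalkLin_zero,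
    LinearMap.zero_apply, ← hn, ← LinearMap.comp_apply, ← stalkLin_comp,
    show ClSub.idealModι (A * B) ≫ ClSub.toSubscheme (A * B) = 0 from kernel.condition _, DevLib.stalkLin_zero,
    LinearMap.zero_apply]

/-- An ideal times an invertible ideal is their tensor product. -/
theorem nonempty_mul_iso (hB : PicF.IsInvertible (ClSub.idealMod B)) :
    Nonempty (tmod (ClSub.idealMod A) (ClSub.idealMod B) ≅ ClSub.idealMod (A * B)) := by
  let φ : tmod (ClSub.idealMod A) (ClSub.idealMod B) ⟶ ClSub.idealMod (A * B) :=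
    kernel.lift _ (mulMap A B) (mulMap_toSubscheme hB)
  have hφ : φ ≫ ClSub.idealModι (A * B) = mulMap A B := kernel.lift_ι _ _ _
  haveI : IsIso φ := by
    refine (isIso_iff_stalk φ).2 fun x => ?_
    obtain ⟨e, b, he, hb, hreg, hB'⟩ := exists_stalk_rep hB x
    have hi := (mono_iff_stalk (ClSub.idealModι (A * B))).1 (inferInstanceAs (Mono (kernel.ι _))) x
    have hiA := (mono_iff_stalk (ClSub.idealModι A)).1 (inferInstanceAs (Mono (kernel.ι _))) x
    have key : ∀ (m) (r : X.presheaf.stalk x), stalkLin (ClSub.idealModι A) x m = r • ParaFLib.oneG x →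
        stalkLin (ClSub.idealModι (A * B)) x (stalkLin φ x
          (stalkTensor x (ClSub.idealMod A) (ClSub.idealMod B) (m ⊗ₜ[X.presheaf.stalk x] e))) =
        (r * b) • ParaFLib.oneG x := fun m r hr => by
      rw [← LinearMap.comp_apply, ← stalkLin_comp, hφ, stalk_mulMap A B hr, hb, smul_smul]
    refine ⟨(injective_iff_map_eq_zero _).2 fun z hz => ?_, fun w => ?_⟩
    · obtain ⟨m, rfl⟩ := exists_tensor_rep (A := A) he z
      obtain ⟨r, hr⟩ := (ParaFLib.bijective_oneG x).2 (stalkLin (ClSub.idealModι A) x m)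
      have h := key m r hr.symm
      rw [hz, map_zero] at h
      have h0 : r * b = 0 := (ParaFLib.bijective_oneG x).1 (h.symm.trans (zero_smul _ _).symm)
      have hm : m = 0 := hiA (by rw [map_zero, ← hr, hreg r h0]; exact zero_smul _ _)
      rw [hm, TensorProduct.zero_tmul, map_zero]
    · obtain ⟨r, hr⟩ := (ParaFLib.bijective_oneG x).2 (stalkLin (ClSub.idealModι (A * B)) x w)
      have hmem := (HilbObsLib.mem_range_idealModι (A * B) x r).1 ⟨w, hr.symm⟩
      rw [DivisorialLib.stalkIdeal_mul, hB'] at hmem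
      obtain ⟨c, hc, hcb⟩ := Ideal.mem_mul_span_singleton.1 hmem
      obtain ⟨m, hm⟩ := (HilbObsLib.mem_range_idealModι A x c).2 hc
      exact ⟨_, hi ((key m c hm).trans (by rw [hcb]; exact hr))⟩
  exact ⟨asIso φ⟩

end Groth.Agent.RibbonBlowLib
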